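import Cfsg.Agent.H201.L34.Tab

/-!
# S5917, an element of order 5 of type `A₄A₄` in `E₈(2)`: tables (helper691)

Roots: index `s < 240` of `chevE8`, `239 - s` is the negative (numbering of `H413.L16`).

* `V5` : the values on the simple roots; the 40 roots of value `0` form `A₄A₄`;
* `ia5 k i j` : the root `e_i - e_j` of the component `k < 2`;
* `q5` : a permutation of the roots (an element of the Weyl group) with `q5 (q5 s) = 239 - s`, value of `q5 s` is twice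
  the value of `s`, `q5 (ia5 0 i j) = ia5 1 i j`, `q5 (ia5 1 i j) = ia5 0 j i`.
-/

set_option autoImplicit false
set_option maxRecDepth 100000

namespace Cfsg.Agent.H691.L34.Y5

open Cfsg Cfsg.Lie
open Cfsg.Agent.H413.L16 (tg)
open Cfsg.Agent.ChevalleyStructure.RootVec (rt)

/-- the values on the simple roots -/
def V5 : Fin 8 → ZMod 5 := ![0, 0, 0, 0, 1, 0, 0, 0]

/-- the weight of a root -/
def w5 (s : ℕ) : ZMod 5 := ∑ i : Fin 8, V5 i * (rt chevE8 s i : ℤ)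

/-- the table of the weights -/
def CV : List ℕ :=
  [0, 0, 0, 0, 1, 1, 1, 1, 1, 1, 2, 2, 2, 2, 1, 1, 1, 2, 2, 2, 2, 1, 2, 2, 2, 2, 2, 2, 2, 2, 3, 3, 3, 3, 3, 3, 2, 2,
  2, 2, 3, 3, 3, 3, 3, 3, 3, 3, 3, 3, 3, 3, 4, 4, 4, 4, 3, 3, 3, 3, 3, 3, 4, 4, 4, 4, 4, 4, 4, 4, 0, 4, 4, 4, 4, 0,
  0, 0, 3, 3, 3, 3, 3, 3, 4, 4, 4, 4, 4, 4, 4, 4, 0, 4, 4, 4, 4, 0, 0, 4, 4, 4, 4, 0, 0, 4, 4, 4, 4, 0, 4, 4, 4, 4,
  0, 0, 0, 0, 0, 0, 0, 0, 0, 0, 0, 0, 1, 1, 1, 1, 0, 1, 1, 1, 1, 0, 0, 1, 1, 1, 1, 0, 0, 1, 1, 1, 1, 0, 1, 1, 1, 1,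
  1, 1, 1, 1, 2, 2, 2, 2, 2, 2, 0, 0, 0, 1, 1, 1, 1, 0, 1, 1, 1, 1, 1, 1, 1, 1, 2, 2, 2, 2, 2, 2, 1, 1, 1, 1, 2, 2,
  2, 2, 2, 2, 2, 2, 2, 2, 2, 2, 3, 3, 3, 3, 2, 2, 2, 2, 2, 2, 3, 3, 3, 3, 3, 3, 3, 3, 4, 3, 3, 3, 3, 4, 4, 4, 3, 3,
  3, 3, 4, 4, 4, 4, 4, 4, 0, 0, 0, 0]

/-- the permutation -/
def Q5 : List ℕ :=
  [70, 75, 76, 77, 161, 160, 158, 159, 157, 156, 218, 223, 224, 225, 13, 12, 11, 55, 65, 69, 74, 10, 54, 64, 68, 73,
  53, 63, 67, 72, 129, 134, 146, 140, 151, 155, 52, 62, 66, 71, 128, 133, 145, 139, 150, 154, 127, 132, 144, 138,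
  149, 153, 203, 213, 217, 222, 126, 131, 143, 137, 148, 152, 202, 212, 216, 221, 201, 211, 215, 220, 239, 200, 210,
  214, 219, 238, 237, 236, 4, 5, 7, 6, 8, 9, 35, 45, 51, 61, 34, 44, 50, 60, 125, 32, 42, 48, 58, 122, 120, 33, 43,
  49, 59, 124, 123, 31, 41, 47, 57, 121, 30, 40, 46, 56, 92, 103, 104, 97, 109, 98, 141, 130, 142, 135, 136, 147,
  183, 193, 199, 209, 118, 182, 192, 198, 208, 116, 115, 180, 190, 196, 206, 119, 117, 181, 191, 197, 207, 114, 179,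
  189, 195, 205, 178, 188, 194, 204, 230, 231, 233, 232, 234, 235, 3, 2, 1, 20, 25, 29, 39, 0, 19, 24, 28, 38, 18,
  23, 27, 37, 87, 91, 102, 96, 108, 113, 17, 22, 26, 36, 86, 90, 101, 95, 107, 112, 85, 89, 100, 94, 106, 111, 168,
  173, 177, 187, 84, 88, 99, 93, 105, 110, 167, 172, 176, 186, 166, 171, 175, 185, 229, 165, 170, 174, 184, 228, 227,
  226, 14, 15, 16, 21, 83, 82, 80, 81, 79, 78, 162, 163, 164, 169]

/-- the roots of the two components `A₄` : entry `25 k + 5 i + j` -/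
def AT5 : List ℕ :=
  [240, 120, 122, 125, 239, 119, 240, 121, 124, 238, 117, 118, 240, 123, 237, 114, 115, 116, 240, 236, 0, 1, 2, 3,
  240, 240, 141, 142, 147, 169, 98, 240, 130, 136, 164, 97, 109, 240, 135, 163, 92, 103, 104, 240, 162, 70, 75, 76,
  77, 240]

/-- the word of the element of the Weyl group -/
def L5 : List ℕ := [159, 205, 196, 171, 126, 148, 209, 144]

/-- the weight -/
def cv (s : ℕ) : ℕ := CV.getD s 5

/-- the permutation -/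
def q5 (s : ℕ) : ℕ := Q5.getD s 240

/-- the root `e_i - e_j` of the component `k` -/
def ia5 (k i j : ℕ) : ℕ := AT5.getD (25 * k + 5 * i + j) 240

theorem cv_tab : ((List.range 240).all fun s => decide (w5 s = (cv s : ℕ) ∧ cv s < 5)) = true := by
  decide +kernel

theorem q5_tab : ((List.range 240).all fun s => decide (q5 (q5 s) = 239 - s ∧ q5 s < 240 ∧
    q5 (239 - s) = 239 - q5 s ∧ w5 (q5 s) = 2 * w5 s)) = true := by
  decide +kernel

/-- the components -/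
theorem ia5_tab : ((List.range 5).all fun i => (List.range 5).all fun j => decide (i = j ∨
    (ia5 0 i j < 240 ∧ ia5 1 i j < 240 ∧ 239 - ia5 0 i j = ia5 0 j i ∧ 239 - ia5 1 i j = ia5 1 j i ∧
      q5 (ia5 0 i j) = ia5 1 i j ∧ q5 (ia5 1 i j) = ia5 0 j i ∧ cv (ia5 0 i j) = 0 ∧ cv (ia5 1 i j) = 0))) = true := by
  decide +kernel

/-- the roots of value zero are the roots of the two components -/
theorem cv_zero : ((List.range 240).all fun s => decide (cv s ≠ 0 ∨ s ∈ AT5)) = true := by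
  decide +kernel

/-- the translations : within a component, and between the two components -/
theorem ia5_tg : ((List.range 5).all fun i => (List.range 5).all fun j => (List.range 5).all fun l => (List.range 5).all fun m =>
    decide (i = j ∨ l = m ∨
      (tg (ia5 0 i j) (ia5 1 l m) = 240 ∧ tg (ia5 1 i j) (ia5 0 l m) = 240 ∧
        (j = l ∧ i ≠ m → tg (ia5 0 i j) (ia5 0 l m) = ia5 0 i m ∧ tg (ia5 1 i j) (ia5 1 l m) = ia5 1 i m) ∧
        (j ≠ l ∧ i = m → tg (ia5 0 i j) (ia5 0 l m) = ia5 0 l j ∧ tg (ia5 1 i j) (ia5 1 l m) = ia5 1 l j) ∧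
        (j ≠ l ∧ i ≠ m → tg (ia5 0 i j) (ia5 0 l m) = 240 ∧ tg (ia5 1 i j) (ia5 1 l m) = 240)))) = true := by
  decide +kernel

end Cfsg.Agent.H691.L34.Y5
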