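import Cfsg.Agent.H691.L34.Def

/-!
# S5917, part I: exact stubs (NOT in the closure of anything; every owner proves his row in his own namespace)
-/

set_option autoImplicit false

namespace Cfsg.Agent.H691.L34.Stub

open Matrix Cfsg.Agent.H691.L34

variable {F : Type} [Field F] [Fintype F] {V : Type} [AddCommGroup V] [Module (ZMod 2) V] [Module.Finite (ZMod 2) V]
  {ρ : Representation (ZMod 2) (G3 F) V}

/-! ### hermitian matrices -/

/-- (I-rank) hermitian matrices of the same rank are congruent under `SL₃(4)` -/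
theorem rank_equiv (hF : Fintype.card F = 4) {X Y : M3 F} (hX : HF X) (hY : HF Y) (h : X.rank = Y.rank) :
    ∃ g : G3 F, hact g X = Y := by sorry

/-- (I-nine-dims) -/
theorem nine_dims (hF : Fintype.card F = 4) {b : Bool} {W : Submodule (ZMod 2) V} (h : IsNine ρ b W) :
    Dims ρ W 9 3 1 0 := by sorry

theorem nine_simp (hF : Fintype.card F = 4) {b : Bool} {W : Submodule (ZMod 2) V} (h : IsNine ρ b W) : Simp ρ W := by
  sorry

/-- the two types are different -/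
theorem nine_ne (hF : Fintype.card F = 4) {W : Submodule (ZMod 2) V} (h : IsNine ρ false W) (h' : IsNine ρ true W) :
    False := by sorry

/-! ### simple modules -/

/-- (I-simp-B) a simple submodule with a vector fixed by the Borel subgroup -/
theorem simp_B (hF : Fintype.card F = 4) (hc : CT ρ) {W : Submodule (ZMod 2) V} (hW : Simp ρ W) {w : V} (hw : w ∈ W)
    (hw0 : w ≠ 0) (hB : ∀ g : G3 F, g.1 1 0 = 0 → g.1 2 0 = 0 → g.1 2 1 = 0 → ρ g w = w) :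
    (∀ v ∈ W, ∀ g, ρ g v = v) ∨ IsNine ρ false W ∨ IsNine ρ true W ∨ Is64 ρ W := by sorry

/-- (I-simp-16) a simple submodule without a vector fixed by the Borel subgroup -/
theorem simp_16 (hF : Fintype.card F = 4) (hc : CT ρ) {W : Submodule (ZMod 2) V} (hW : Simp ρ W)
    (hB : ∀ w ∈ W, (∀ g : G3 F, g.1 1 0 = 0 → g.1 2 0 = 0 → g.1 2 1 = 0 → ρ g w = w) → w = 0) : Is16 ρ W := by sorry

/-- (I-simp) from the two -/
theorem simp_cases (hF : Fintype.card F = 4) (hc : CT ρ) {W : Submodule (ZMod 2) V} (hW : Simp ρ W) :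
    (∀ v ∈ W, ∀ g, ρ g v = v) ∨ IsNine ρ false W ∨ IsNine ρ true W ∨ Is16 ρ W ∨ Is64 ρ W := by sorry

/-- (I-PL) the dimensions of every module -/
theorem PL (hF : Fintype.card F = 4) (hc : CT ρ) {A B : Submodule (ZMod 2) V} (hA : Inv ρ A) (hB : Inv ρ B) (h : A ≤ B) :
    ∃ a b c d : ℕ, Module.finrank (ZMod 2) B = Module.finrank (ZMod 2) A + (a + 16 * b + 9 * c + 64 * d) ∧
      (∀ g : G3 F, orderOf g = 3 → g ∉ Subgroup.center (G3 F) → Module.finrank (ZMod 2) (fx ρ g B) =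
        Module.finrank (ZMod 2) (fx ρ g A) + (a + 4 * b + 3 * c + 22 * d)) ∧
      (∀ g : G3 F, orderOf g = 5 → Module.finrank (ZMod 2) (fx ρ g B) =
        Module.finrank (ZMod 2) (fx ρ g A) + (a + 4 * b + c + 12 * d)) ∧
      ∀ g : G3 F, orderOf g = 7 → Module.finrank (ZMod 2) (fx ρ g B) =
        Module.finrank (ZMod 2) (fx ρ g A) + (a + 4 * b + 10 * d) := by sorry

/-- (I-ST) a Steinberg submodule has a complement -/
theorem st_compl (hF : Fintype.card F = 4) {W X : Submodule (ZMod 2) V} (hW : Simp ρ W) (h : Is64 ρ W) (hX : Inv ρ X)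
    (hWX : W ≤ X) : ∃ C : Submodule (ZMod 2) V, Inv ρ C ∧ W ⊓ C = ⊥ ∧ W ⊔ C = X := by sorry

/-! ### existence of a submodule of type 9 -/

/-- (I-N) `V` with the dimensions of the Lie algebra, a nondegenerate invariant form and no fixed vector -/
theorem exists_nine (hF : Fintype.card F = 4) (hc : CT ρ) {n5 n7 : ℕ} (hn5 : n5 = 68 ∨ n5 = 48) (hn7 : n7 = 80 ∨ n7 = 38)
    (hd : Dims ρ (⊤ : Submodule (ZMod 2) V) 248 86 n5 n7) (B : LinearMap.BilinForm (ZMod 2) V) (hB : B.Nondegenerate)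
    (hs : ∀ x y, B x y = B y x) (hi : ∀ g x y, B (ρ g x) (ρ g y) = B x y) (h0 : fixAll ρ = ⊥) :
    ∃ b W, IsNine ρ b W := by sorry

/-- (I-pat) the pattern -/
theorem pat {a b c d n5 n7 : ℕ} (hn5 : n5 = 68 ∨ n5 = 48) (hn7 : n7 = 80 ∨ n7 = 38) (h : 248 = a + 16 * b + 9 * c + 64 * d)
    (h3 : 86 = a + 4 * b + 3 * c + 22 * d) (h5 : n5 = a + 4 * b + c + 12 * d) (h7 : n7 = a + 4 * b + 10 * d) :
    a = 4 ∧ b = 1 ∧ c = 4 ∧ d = 3 := by omega

/-! ### the bracket of a submodule of type 9 with itself -/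

/-- an invariant alternating bilinear map -/
structure Brk (ρ : Representation (ZMod 2) (G3 F) V) (β : V →ₗ[ZMod 2] V →ₗ[ZMod 2] V) : Prop where
  alt : ∀ x, β x x = 0
  inv : ∀ g x y, ρ g (β x y) = β (ρ g x) (ρ g y)

/-- the span of the brackets -/
def bsp (β : V →ₗ[ZMod 2] V →ₗ[ZMod 2] V) (W : Submodule (ZMod 2) V) : Submodule (ZMod 2) V :=
  Submodule.span (ZMod 2) {v | ∃ x ∈ W, ∃ y ∈ W, β x y = v}

/-- `diag(1,1,0)`, `diag(0,1,1)` -/
def d1 : M3 F := !![1, 0, 0; 0, 1, 0; 0, 0, 0]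
def d2 : M3 F := !![0, 0, 0; 0, 1, 0; 0, 0, 1]

/-- (I-La) the exterior square is generated by `d1 ∧ d2` -/
theorem lam_gen (hF : Fintype.card F = 4) {β : V →ₗ[ZMod 2] V →ₗ[ZMod 2] V} (hβ : Brk ρ β) {b : Bool}
    {W : Submodule (ZMod 2) V} {φ : M3 F → V} (h1 : ∀ X Y, HF X → HF Y → φ (X + Y) = φ X + φ Y)
    (h2 : ∀ v, v ∈ W ↔ ∃ X, HF X ∧ φ X = v) (h3 : ∀ (g : G3 F) X, HF X → ρ g (φ X) = φ (hact (tw b g) X))
    (h : β (φ d1) (φ d2) = 0) : ∀ x ∈ W, ∀ y ∈ W, β x y = 0 := by sorry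

/-- (I-Lb) no fixed vector in `V` and the exterior square not embedded (`finrank < 36`) : `β (φ d1) (φ d2)` is fixed by
every unitary matrix of the group `3² : Q₈` -/
theorem lam_fix (hF : Fintype.card F = 4) {β : V →ₗ[ZMod 2] V →ₗ[ZMod 2] V} (hβ : Brk ρ β) (h0 : fixAll ρ = ⊥) {b : Bool}
    {W : Submodule (ZMod 2) V} {φ : M3 F → V} (h1 : ∀ X Y, HF X → HF Y → φ (X + Y) = φ X + φ Y)
    (h2 : ∀ v, v ∈ W ↔ ∃ X, HF X ∧ φ X = v) (h3 : ∀ (g : G3 F) X, HF X → ρ g (φ X) = φ (hact (tw b g) X))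
    (h : Module.finrank (ZMod 2) (bsp β W) < 36) (g : G3 F) (hg : hact g (1 : M3 F) = 1) :
    ρ g (β (φ d1) (φ d2)) = β (φ d1) (φ d2) := by sorry

/-- (I-Lc) the exterior square embedded -/
theorem lam_emb (hF : Fintype.card F = 4) {β : V →ₗ[ZMod 2] V →ₗ[ZMod 2] V} (hβ : Brk ρ β) {b : Bool}
    {W : Submodule (ZMod 2) V} (hW : IsNine ρ b W) (h : 36 ≤ Module.finrank (ZMod 2) (bsp β W)) :
    Dims ρ (bsp β W) 36 12 8 6 ∧ Inv ρ (bsp β W) ∧ ∃ N, IsNine ρ (!b) N ∧ N ≤ bsp β W ∧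
      ∀ X : Submodule (ZMod 2) V, Inv ρ X → X ≤ bsp β W → X ≠ ⊥ → N ≤ X := by sorry

/-- (I-ab) assembly: an abelian submodule of type 9 -/
theorem exists_abelian (hF : Fintype.card F = 4) (hc : CT ρ) {n5 n7 : ℕ} (hn5 : n5 = 68 ∨ n5 = 48)
    (hn7 : n7 = 80 ∨ n7 = 38) (hd : Dims ρ (⊤ : Submodule (ZMod 2) V) 248 86 n5 n7)
    (B : LinearMap.BilinForm (ZMod 2) V) (hB : B.Nondegenerate) (hs : ∀ x y, B x y = B y x)
    (hi : ∀ g x y, B (ρ g x) (ρ g y) = B x y) (h0 : fixAll ρ = ⊥) {β : V →ₗ[ZMod 2] V →ₗ[ZMod 2] V} (hβ : Brk ρ β)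
    (hfix : ∀ (b : Bool) (φ : M3 F → V), (∀ X Y, HF X → HF Y → φ (X + Y) = φ X + φ Y) → (∀ X, HF X → φ X = 0 → X = 0) →
      (∀ (g : G3 F) X, HF X → ρ g (φ X) = φ (hact (tw b g) X)) →
      (∀ g : G3 F, hact g (1 : M3 F) = 1 → ρ g (β (φ d1) (φ d2)) = β (φ d1) (φ d2)) → β (φ d1) (φ d2) = 0) :
    ∃ b W, IsNine ρ b W ∧ ∀ x ∈ W, ∀ y ∈ W, β x y = 0 := by sorry

/-! ### the trace of the group `3² : Q₈` -/

/-- (I-Z) `R` : the unitary group (`hact g 1 = 1`), order `3 * 72`; `E` : its normal subgroup of exponent 3, `z` an element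
of order 2 of `R`. A vector of `W` (type 9) or a fixed vector, which is the sum over `R` of the images of a vector fixed by
`E`, vanishes. -/
theorem trace_zero (hF : Fintype.card F = 4) (hc : CT ρ) {n5 n7 : ℕ} (hn5 : n5 = 68 ∨ n5 = 48) (hn7 : n7 = 80 ∨ n7 = 38)
    (hd : Dims ρ (⊤ : Submodule (ZMod 2) V) 248 86 n5 n7) (E : Subgroup (G3 F))
    (hE : ∀ g : G3 F, g ∈ E ↔ (hact g (1 : M3 F) = 1 ∧ g ^ 3 = 1)) {z : G3 F} (hz : hact z (1 : M3 F) = 1) (hz2 : orderOf z = 2)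
    (h20 : Module.finrank (ZMod 2) ↥((⨅ g ∈ E, LinearMap.ker (ρ g - LinearMap.id)) ⊓ LinearMap.ker (ρ z - LinearMap.id)) = 20)
    {v : V} (hv : (∃ b W, IsNine ρ b W ∧ v ∈ W) ∨ v ∈ fixAll ρ) {u : V} (hu : ∀ g ∈ E, ρ g u = u)
    (h : v = ∑ᶠ g : {g : G3 F // hact g (1 : M3 F) = 1 ∧ (∃ m : ℕ, g ^ (2 ^ m) = 1)}, ρ (g : G3 F) u) : v = 0 := by sorry

end Cfsg.Agent.H691.L34.Stub
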